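import Cfsg.Agent.H478.HN3D
import Cfsg.Agent.H678.HNT.Cent
import Cfsg.Agent.H403.TitsSixteen
import Cfsg.Agent.H728.Four.HNThreeComm
import Cfsg.Agent.Lib.FastPerm
import Cfsg.Agent.FastGrp
import Cfsg.Agent.Prune
set_option linter.all false

section
prune_inst 0x7ffefeffaffcbfffffff7e7ffffddffffbfcffffffdffbfbfffdfbffefdf6befbbe5fbaf7fecdaffcef7e2b630f87b53ffffdeffef6bdc7ffffd5ff45ffbff9fffffbf8d51f6b83e1ffc6ffffbf37fffffffffffffffffffffffffffffffffffffffffffffff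

-- part: H680/HNF/CentA
section
prune_inst 0x1010050004000000001800000000004010000002004000000000010209000401200008003010031001000ce0400a000002000009421000002a000a0040040000000320e010340c0031000000c800000000000000000000000000000000000000000000000
set_option linter.all false
open scoped Cfsg.Agent.FastGrp

/-!
# The centralizer of a `3B` element of `HN` has order 29160 (helper680): the part in `C(W0)`
-/

set_option autoImplicit false
set_option linter.unusedSectionVars false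

namespace Cfsg.Agent.H680.HNF

open Cfsg.Agent.HN Cfsg.Agent.HN.Pres Cfsg.Agent.HN.P1408 Cfsg.Agent.HN.H0Basic Cfsg.Agent.HN.XMat
open Cfsg.Agent.HN.XStruct Cfsg.Agent.HN.XWords Cfsg.Agent.HN.XQuot Cfsg.Agent.HN.XInst
open Cfsg.Agent
open Cfsg.Agent.KFacts.HN
open Cfsg.Agent.CpAutHN.LqFacts
open Cfsg.Agent.CpAutHN.PPFacts
open Subgroup

variable [Finite Cfsg.Spor.HN]

theorem ker_A {x v : PP} (hx : ρ x = φA c0) (hv : v ∈ ρ.ker) (h : v * x = x * v) :
    (v : Cfsg.Spor.HN) = 1 ∨ (v : Cfsg.Spor.HN) = W0 := by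
  obtain ⟨m, hm, c, hvm⟩ := mem_ker_iff.1 hv
  have h1 := fix_A hm (app_eq_of_comm (hx.trans φA_c0) hm hvm h)
  rw [h1, show r Q 0 = 1 from Bas.r_zero, one_mul] at hvm
  rw [hvm]
  exact sgn0_cases c

theorem exists_lift {x : PP} (h3 : orderOf x = 3) (hx : ρ x = φA c0) {a : A5} (ha : a * c0 = c0 * a) (b : A5) :
    ∃ w : PP, w * x = x * w ∧ ρ w = φA a * φB b := by
  obtain ⟨w, hw⟩ := ρ_surj (φA a * φB b)
  obtain ⟨q, hq, hqw⟩ := CpAutTh.RankOne.exists_comm Nat.prime_two Nat.prime_three (by norm_num) ρ isPGroup_ker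
    (g := w) h3 (by
      rw [hw, hx]
      have h1 := comm_AB c0 b
      calc φA a * φB b * φA c0 = φA a * (φB b * φA c0) := by group
        _ = φA (a * c0) * φB b := by rw [← h1, map_mul]; group
        _ = φA c0 * (φA a * φB b) := by rw [ha, map_mul]; group)
  exact ⟨q * w, hqw, by rw [map_mul, (MonoidHom.mem_ker).1 hq, one_mul, hw]⟩

theorem image_A {x v : PP} (hx : ρ x = φA c0) (h : v * x = x * v) :
    ∃ a b : A5, a * c0 = c0 * a ∧ ρ v = φA a * φB b := by
  have hc : ρ v * φA c0 = φA c0 * ρ v := by rw [← hx, ← map_mul, h, map_mul]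
  obtain ⟨a, b, hab⟩ := mem_LL.1 (mem_LL_of_comm c0_ne hc)
  refine ⟨a, b, ?_, hab.symm⟩
  apply φA_inj
  rw [map_mul, map_mul]
  have h := comm_AB c0 b
  apply mul_right_cancel (b := φB b)
  rw [← hab] at hc
  calc φA a * φA c0 * φB b = φA a * (φA c0 * φB b) := by group
    _ = φA a * φB b * φA c0 := by rw [h]; group
    _ = φA c0 * (φA a * φB b) := hc
    _ = φA c0 * φA a * φB b := by group

theorem card_A5 : Nat.card A5 = 60 := by
  rw [nat_card_alternatingGroup, Nat.card_eq_fintype_card, Fintype.card_fin]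
  rfl

theorem card_range {x : PP} (h3 : orderOf x = 3) (hx : ρ x = φA c0) :
    Nat.card ↥(ρ.comp (CP x).subtype).range = 180 := by
  have hc0 : orderOf c0 = 3 := orderOf_eq_prime c0_cube c0_ne
  let C0 : Subgroup (A5 × A5) := (Subgroup.zpowers c0).prod ⊤
  have hC0 : Nat.card ↥C0 = 180 := by
    rw [Nat.card_congr (Subgroup.prodEquiv _ _).toEquiv, Nat.card_prod, Nat.card_zpowers, hc0, Subgroup.card_top, card_A5]
  have hinj : Function.Injective φ2 := by
    rintro ⟨a, b⟩ ⟨a', b'⟩ h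
    obtain ⟨h1, h2⟩ := φ2_inj h
    exact Prod.ext h1 h2
  have hmap : Nat.card ↥(C0.map φ2) = 180 := by
    rw [← hC0]
    exact (Nat.card_congr (C0.equivMapOfInjective φ2 hinj).toEquiv).symm
  have he : (ρ.comp (CP x).subtype).range = C0.map φ2 := by
    ext z
    constructor
    · rintro ⟨v, rfl⟩
      obtain ⟨a, b, ha, hab⟩ := image_A hx (mem_centralizer_singleton_iff.1 v.2)
      refine ⟨(a, b), Subgroup.mem_prod.2 ⟨?_, mem_top _⟩, hab.symm⟩
      rcases cent_c0 ha with rfl | rfl | rfl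
      · exact Subgroup.one_mem _
      · exact Subgroup.mem_zpowers _
      · exact Subgroup.mul_mem _ (Subgroup.mem_zpowers _) (Subgroup.mem_zpowers _)
    · rintro ⟨⟨a, b⟩, hab, rfl⟩
      obtain ⟨i, hi⟩ := mem_zpowers_iff.1 (Subgroup.mem_prod.1 hab).1
      have ha : a * c0 = c0 * a := by
        change c0 ^ i = a at hi
        rw [← hi]
        exact ((Commute.refl c0).zpow_left i).eq
      obtain ⟨w, hw, hw'⟩ := exists_lift h3 hx ha b
      exact ⟨⟨w, mem_centralizer_singleton_iff.2 hw⟩, hw'⟩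
  rw [he, hmap]

theorem card_ker' {x : PP} (hx : ρ x = φA c0) : Nat.card ↥(ρ.comp (CP x).subtype).ker = 2 := by
  have hW : (W0 : Cfsg.Spor.HN) ∈ PP := mem_PP.2 rfl
  have hWx : (⟨W0, hW⟩ : PP) ∈ CP x := by
    refine mem_centralizer_singleton_iff.2 (Subtype.ext ?_)
    exact (mem_PP.1 x.2).symm
  have hWk : (⟨⟨W0, hW⟩, hWx⟩ : CP x) ∈ (ρ.comp (CP x).subtype).ker :=
    Cfsg.Agent.H569.HNThree.mem_ker_W0 (v := ⟨W0, hW⟩) rfl
  rw [Nat.card_eq_two_iff]
  refine ⟨1, ⟨⟨⟨W0, hW⟩, hWx⟩, hWk⟩, ?_, ?_⟩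
  · intro h
    apply W0_ne
    have h1 := congrArg (fun y : ↥(ρ.comp (CP x).subtype).ker => (((y : ↥(CP x)) : PP) : Cfsg.Spor.HN)) h
    exact h1.symm
  · ext y
    simp only [Set.mem_insert_iff, Set.mem_singleton_iff, Set.mem_univ, iff_true]
    have h1 : ((y : ↥(CP x)) : PP) ∈ ρ.ker := y.2
    rcases ker_A hx h1 (mem_centralizer_singleton_iff.1 (y : ↥(CP x)).2) with h | h
    · left
      exact Subtype.ext (Subtype.ext (Subtype.ext h))
    · right
      exact Subtype.ext (Subtype.ext (Subtype.ext h))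

/-- **the centralizer of an element of the first type in `C(W0)`** -/
theorem card_CP {x : PP} (h3 : orderOf x = 3) (hx : ρ x = φA c0) : Nat.card ↥(CP x) = 360 := by
  rw [← (ρ.comp (CP x).subtype).ker.card_mul_index, Subgroup.index_ker, card_ker' hx, card_range h3 hx]

theorem center_A5 : ∀ b : A5, (∀ g : A5, g * b = b * g) → b = 1 := fun b h =>
  Subgroup.mem_bot.1 ((alternatingGroup.center_eq_bot (by rw [Nat.card_eq_fintype_card, Fintype.card_fin]; decide)).le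
    (Subgroup.mem_center_iff.2 h))

theorem exists_lift_B {x : PP} (h3 : orderOf x = 3) (hx : ρ x = φA c0) (g : A5) :
    ∃ w ∈ CP x, ρ w = φB g := by
  obtain ⟨w, hw, hw'⟩ := exists_lift h3 hx (a := 1) (by rw [one_mul, mul_one]) g
  exact ⟨w, mem_centralizer_singleton_iff.2 hw, by rw [hw', map_one, one_mul]⟩

/-- **normal subgroups of odd order of the centralizer are in `⟨x⟩`** -/
theorem core_PP {x : PP} (h3 : orderOf x = 3) (hx : ρ x = φA c0) (N : Subgroup PP) (hN : N ≤ CP x)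
    (hn : ∀ u ∈ N, ∀ d ∈ CP x, d * u * d⁻¹ ∈ N) (hodd : Odd (Nat.card N)) {u : PP} (hu : u ∈ N) :
    u ∈ zpowers x := by
  -- the intersection with the second factor
  have hJn : ((N.map ρ).comap φB).Normal := by
    constructor
    rintro b ⟨u', hu', hub⟩ g
    obtain ⟨w, hw, hwg⟩ := exists_lift_B h3 hx g
    refine ⟨w * u' * w⁻¹, hn u' hu' w hw, ?_⟩
    change ρ (w * u' * w⁻¹) = φB (g * b * g⁻¹)
    rw [map_mul, map_mul, map_inv, hwg, hub, map_mul, map_mul, map_inv]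
  have hJodd : Odd (Nat.card ↥((N.map ρ).comap φB)) := by
    have h1 : Nat.card ↥((N.map ρ).comap φB) = Nat.card ↥(((N.map ρ).comap φB).map φB) :=
      Nat.card_congr (Subgroup.equivMapOfInjective _ φB φB_inj).toEquiv
    have h2 : ((N.map ρ).comap φB).map φB ≤ N.map ρ := Subgroup.map_comap_le _ _
    rw [h1]
    exact Odd.of_dvd_nat hodd ((Subgroup.card_dvd_of_le h2).trans (Subgroup.card_map_dvd N ρ))
  have hJ : (N.map ρ).comap φB = ⊥ := by
    have hs : IsSimpleGroup A5 := alternatingGroup.isSimpleGroup (by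
      rw [Nat.card_eq_fintype_card, Fintype.card_fin])
    rcases hJn.eq_bot_or_eq_top with h | h
    · exact h
    · exfalso
      rw [h, Subgroup.card_top, card_A5] at hJodd
      exact absurd hJodd (by decide)
  have huC := hN hu
  obtain ⟨a, b, ha, hab⟩ := image_A hx (mem_centralizer_singleton_iff.1 huC)
  have hb : b = 1 := by
    apply center_A5
    intro g
    obtain ⟨w, hw, hwg⟩ := exists_lift_B h3 hx g
    have h1 : g * b * g⁻¹ * b⁻¹ ∈ (N.map ρ).comap φB := by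
      refine ⟨w * u * w⁻¹ * u⁻¹, N.mul_mem (hn u hu w hw) (N.inv_mem hu), ?_⟩
      rw [map_mul, map_mul, map_mul, map_inv, map_inv, hwg, hab, map_mul, map_mul, map_mul, map_inv, map_inv]
      have h2 := comm_AB a g
      calc φB g * (φA a * φB b) * (φB g)⁻¹ * (φA a * φB b)⁻¹ = (φB g * φA a) * φB b * (φB g)⁻¹ * (φB b)⁻¹ * (φA a)⁻¹ := by group
        _ = φA a * (φB g * φB b * (φB g)⁻¹ * (φB b)⁻¹) * (φA a)⁻¹ := by rw [← h2]; group
        _ = φB g * φB b * (φB g)⁻¹ * (φB b)⁻¹ := by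
          have h3 := comm_AB a (g * b * g⁻¹ * b⁻¹)
          rw [map_mul, map_mul, map_mul, map_inv, map_inv] at h3
          rw [h3, mul_inv_cancel_right]
    rw [hJ, mem_bot] at h1
    calc g * b = g * b * g⁻¹ * b⁻¹ * (b * g) := by group
      _ = b * g := by rw [h1, one_mul]
  rw [hb, map_one, mul_one] at hab
  have hai : ∃ i : ℕ, a = c0 ^ i := by
    rcases cent_c0 ha with rfl | rfl | rfl
    · exact ⟨0, (pow_zero _).symm⟩
    · exact ⟨1, (pow_one _).symm⟩
    · exact ⟨2, (pow_two _).symm⟩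
  obtain ⟨i, rfl⟩ := hai
  have hux : u * x = x * u := mem_centralizer_singleton_iff.1 huC
  have hker : u * (x ^ i)⁻¹ ∈ ρ.ker := by
    rw [MonoidHom.mem_ker, map_mul, map_inv, map_pow, hab, hx, ← map_pow, mul_inv_cancel]
  have hc1 : Commute u (x ^ i)⁻¹ := ((show Commute u x from hux).pow_right i).inv_right
  have hc2 : u * (x ^ i)⁻¹ * x = x * (u * (x ^ i)⁻¹) :=
    (show Commute (u * (x ^ i)⁻¹) x from
      (show Commute u x from hux).mul_left ((Commute.refl x).pow_left i).inv_left).eq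
  rcases ker_A hx hker hc2 with h | h
  · have h1 : u * (x ^ i)⁻¹ = 1 := Subtype.ext h
    rw [mul_inv_eq_one.1 h1]
    exact pow_mem (mem_zpowers x) i
  · exfalso
    have h2 : (u * (x ^ i)⁻¹) * (u * (x ^ i)⁻¹) = 1 := by
      apply Subtype.ext
      change ((u * (x ^ i)⁻¹ : PP) : Cfsg.Spor.HN) * ((u * (x ^ i)⁻¹ : PP) : Cfsg.Spor.HN) = 1
      rw [h, W0_sq]
    have h3' : (u * (x ^ i)⁻¹) ^ 3 = u ^ 3 := by
      rw [hc1.mul_pow, inv_pow, ← pow_mul, mul_comm i 3, pow_mul, ← h3, pow_orderOf_eq_one, one_pow, inv_one, mul_one]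
    have h4 : u * (x ^ i)⁻¹ = u ^ 3 := by
      rw [← h3', pow_succ, pow_two, h2, one_mul]
    have h5 : u * (x ^ i)⁻¹ ∈ N := by rw [h4]; exact N.pow_mem hu 3
    have h6 : orderOf (⟨u * (x ^ i)⁻¹, h5⟩ : N) = 2 := by
      apply orderOf_eq_prime
      · apply Subtype.ext
        rw [pow_two]
        exact h2
      · intro h7
        have h8 : u * (x ^ i)⁻¹ = 1 := congrArg Subtype.val h7
        rw [h8] at h
        exact W0_ne h.symm
    have h7 : 2 ∣ Nat.card N := by rw [← h6]; exact orderOf_dvd_natCard _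
    exact (Nat.not_even_iff_odd.2 hodd) (even_iff_two_dvd.2 h7)

end Cfsg.Agent.H680.HNF
end

-- part: H680/HNF/NoFF
section
set_option linter.all false
open scoped Cfsg.Agent.FastGrp

-- part: H680/HNF/ThreeB
section
/-!
# The centralizer of a `3B` element of `HN` has order 29160 (helper680)
-/

set_option autoImplicit false

namespace Cfsg.Agent.H680.HNF

open Subgroup Cfsg
open Cfsg.Agent
open Cfsg.Agent.HN.XWords (W0 W0_sq)
open Cfsg.Agent.KFacts.HN (PP mem_PP ρ φA φB W0_ne A5 comm_AB φB_inj ρ_surj card_PP)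
open Cfsg.Agent.CpAutHN.LqFacts
open Cfsg.Agent.CpAutHN.PPFacts
open Cfsg.Agent.CpAutHN.Alt
open Cfsg.Agent.CpAutHN.Tr
open Cfsg.Agent.CpAutHN.Pairs
open Cfsg.Agent.H569 (KleinIso.core_sup KleinIso.odd_core)
open Cfsg.Agent.H569.HNThree
open Cfsg.Agent.CpAutHN.Second
open Cfsg.Agent.CpAutHN.NineAlt
open Equiv.Perm (mem_alternatingGroup)

/-- the subgroup `C(X3) ∩ C(S3)` -/
noncomputable abbrev DG : Subgroup G := centralizer ({X3} : Set G) ⊓ centralizer ({S3} : Set G)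

section tr

variable {g : G} (hg : g * X3 * g⁻¹ ∈ PP) (hs : g * S3 * g⁻¹ = W0)

include hs in
theorem conj_mem_PP {u : G} (hu : u * S3 = S3 * u) : g * u * g⁻¹ ∈ PP := by
  rw [mem_PP, ← hs]
  calc g * u * g⁻¹ * (g * S3 * g⁻¹) = g * (u * S3) * g⁻¹ := by group
    _ = g * (S3 * u) * g⁻¹ := by rw [hu]
    _ = _ := by group

include hs in
theorem map_DG : DG.map (MulAut.conj g).toMonoidHom = (CP ⟨g * X3 * g⁻¹, hg⟩).map PP.subtype := by
  ext y
  rw [mem_map, mem_map]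
  constructor
  · rintro ⟨z, ⟨hz1, hz2⟩, rfl⟩
    have hzx : z * X3 = X3 * z := mem_centralizer_singleton_iff.1 hz1
    have hzs : z * S3 = S3 * z := mem_centralizer_singleton_iff.1 hz2
    refine ⟨⟨g * z * g⁻¹, conj_mem_PP hs hzs⟩, ?_, rfl⟩
    refine mem_centralizer_singleton_iff.2 (Subtype.ext ?_)
    change g * z * g⁻¹ * (g * X3 * g⁻¹) = g * X3 * g⁻¹ * (g * z * g⁻¹)
    calc g * z * g⁻¹ * (g * X3 * g⁻¹) = g * (z * X3) * g⁻¹ := by group
      _ = g * (X3 * z) * g⁻¹ := by rw [hzx]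
      _ = _ := by group
  · rintro ⟨w, hw, rfl⟩
    have hw1 : (w : G) * (g * X3 * g⁻¹) = g * X3 * g⁻¹ * w :=
      congrArg Subtype.val (mem_centralizer_singleton_iff.1 hw)
    have hw2 := mem_PP.1 w.2
    refine ⟨g⁻¹ * w * g, ⟨mem_centralizer_singleton_iff.2 ?_, mem_centralizer_singleton_iff.2 ?_⟩, ?_⟩
    · calc g⁻¹ * w * g * X3 = g⁻¹ * ((w : G) * (g * X3 * g⁻¹)) * g := by group
        _ = g⁻¹ * (g * X3 * g⁻¹ * w) * g := by rw [hw1]
        _ = X3 * (g⁻¹ * w * g) := by group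
    · rw [← hs] at hw2
      calc g⁻¹ * w * g * S3 = g⁻¹ * ((w : G) * (g * S3 * g⁻¹)) * g := by group
        _ = g⁻¹ * (g * S3 * g⁻¹ * w) * g := by rw [hw2]
        _ = S3 * (g⁻¹ * w * g) := by group
    · change g * (g⁻¹ * w * g) * g⁻¹ = w
      group

end tr

/-- `|C(X3) ∩ C(S3)| = 360` -/
theorem card_DG : Nat.card DG = 360 := by
  obtain ⟨g, hg, hs, hρ⟩ := t1_x3
  have h3 : orderOf (⟨g * X3 * g⁻¹, hg⟩ : PP) = 3 := order_sub hg (order_conj order_X3 g)
  rw [Nat.card_congr (DG.equivMapOfInjective (MulAut.conj g).toMonoidHom (MulAut.conj g).injective).toEquiv,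
    map_DG hg hs, ← card_CP h3 hρ]
  exact (Nat.card_congr ((CP ⟨g * X3 * g⁻¹, hg⟩).equivMapOfInjective _ PP.subtype_injective).toEquiv).symm

/-- normal subgroups of odd order of `C(X3) ∩ C(S3)` -/
theorem core_DG (N : Subgroup G) (hN : N ≤ DG) (hn : ∀ u ∈ N, ∀ d ∈ DG, d * u * d⁻¹ ∈ N) (hodd : Odd (Nat.card N))
    {u : G} (hu : u ∈ N) : u ∈ zpowers X3 := by
  obtain ⟨g, hg, hs, hρ⟩ := t1_x3
  have h3 : orderOf (⟨g * X3 * g⁻¹, hg⟩ : PP) = 3 := order_sub hg (order_conj order_X3 g)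
  have hmap := map_DG hg hs
  set M : Subgroup PP := (N.map (MulAut.conj g).toMonoidHom).comap PP.subtype with hM
  have hMmem : ∀ {v : PP}, v ∈ M ↔ ∃ n ∈ N, g * n * g⁻¹ = v := by
    intro v
    rfl
  have hMC : M ≤ CP ⟨g * X3 * g⁻¹, hg⟩ := by
    intro v hv
    obtain ⟨n, hn, hnv⟩ := hMmem.1 hv
    have h1 : (v : G) ∈ DG.map (MulAut.conj g).toMonoidHom := ⟨n, hN hn, hnv⟩
    rw [hmap] at h1
    obtain ⟨w, hw, hwv⟩ := h1
    have : w = v := Subtype.ext hwv
    rwa [← this]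
  have hMn : ∀ v ∈ M, ∀ d ∈ CP ⟨g * X3 * g⁻¹, hg⟩, d * v * d⁻¹ ∈ M := by
    intro v hv d hd
    obtain ⟨n, hnN, hnv⟩ := hMmem.1 hv
    have h1 : (d : G) ∈ (CP ⟨g * X3 * g⁻¹, hg⟩).map PP.subtype := ⟨d, hd, rfl⟩
    rw [← hmap] at h1
    obtain ⟨e, he, hed⟩ := h1
    have hed' : g * e * g⁻¹ = (d : G) := hed
    refine hMmem.2 ⟨e * n * e⁻¹, hn n hnN e he, ?_⟩
    change g * (e * n * e⁻¹) * g⁻¹ = (d : G) * v * (d : G)⁻¹
    rw [← hed', ← hnv]
    group
  have hModd : Odd (Nat.card M) := by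
    refine Odd.of_dvd_nat hodd ?_
    have h1 : Nat.card M = Nat.card ↥(M.map PP.subtype) :=
      Nat.card_congr (M.equivMapOfInjective _ PP.subtype_injective).toEquiv
    rw [h1]
    refine (Subgroup.card_dvd_of_le (Subgroup.map_comap_le _ _)).trans ?_
    exact Subgroup.card_map_dvd N _
  have h4 := core_PP h3 hρ M hMC hMn hModd (u := ⟨g * u * g⁻¹, conj_mem_PP hs (mem_centralizer_singleton_iff.1 (hN hu).2)⟩)
    (hMmem.2 ⟨u, hu, rfl⟩)
  obtain ⟨i, hi⟩ := mem_zpowers_iff.1 h4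
  have h5 : (g * X3 * g⁻¹) ^ i = g * u * g⁻¹ := congrArg Subtype.val hi
  rw [conj_zpow] at h5
  exact mem_zpowers_iff.2 ⟨i, mul_left_cancel (mul_right_cancel h5)⟩

/-! ### the core -/

/-- `X3` in its centralizer -/
noncomputable def xm : MM := ⟨X3, mem_centralizer_singleton_iff.2 rfl⟩

theorem xm_comm (y : MM) : xm * y = y * xm := Subtype.ext (mem_centralizer_singleton_iff.1 y.2).symm

theorem order_xm : orderOf xm = 3 := by rw [← Subgroup.orderOf_coe]; exact order_X3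

theorem xm_core : xm ∈ pPrimeCore 2 MM := by
  have h : zpowers xm ≤ pPrimeCore 2 MM := by
    refine Lib.Cores.le_pPrimeCore ?_ ?_
    · constructor
      intro z hz y
      obtain ⟨k, rfl⟩ := mem_zpowers_iff.1 hz
      rw [← ((show Commute xm y from xm_comm y).zpow_left k).eq, mul_inv_cancel_right]
      exact zpow_mem (mem_zpowers xm) k
    · rw [Nat.card_zpowers, order_xm]
      norm_num
  exact h (mem_zpowers xm)

theorem core_fix {m : MM} (hm : m ∈ pPrimeCore 2 MM) (h : ss * m = m * ss) : m ∈ zpowers xm := by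
  have hn : (pPrimeCore 2 MM).Normal := Lib.Cores.pPrimeCore_normal 2
  have h1 := core_DG (((pPrimeCore 2 MM) ⊓ centralizer ({ss} : Set MM)).map MM.subtype) ?_ ?_ ?_ (u := (m : G))
    ⟨m, ⟨hm, mem_centralizer_singleton_iff.2 h.symm⟩, rfl⟩
  · obtain ⟨i, hi⟩ := mem_zpowers_iff.1 h1
    exact mem_zpowers_iff.2 ⟨i, Subtype.ext hi⟩
  · rintro _ ⟨y, ⟨-, hy⟩, rfl⟩
    exact ⟨y.2, mem_centralizer_singleton_iff.2 (congrArg Subtype.val (mem_centralizer_singleton_iff.1 hy))⟩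
  · rintro _ ⟨y, ⟨hy1, hy2⟩, rfl⟩ d ⟨hd1, hd2⟩
    refine ⟨(⟨d, hd1⟩ * y * ⟨d, hd1⟩⁻¹ :), ⟨hn.conj_mem y hy1 _, ?_⟩, rfl⟩
    have hd : (⟨d, hd1⟩ : MM) ∈ centralizer ({ss} : Set MM) :=
      mem_centralizer_singleton_iff.2 (Subtype.ext (mem_centralizer_singleton_iff.1 hd2))
    exact (centralizer ({ss} : Set MM)).mul_mem ((centralizer ({ss} : Set MM)).mul_mem hd hy2)
      ((centralizer ({ss} : Set MM)).inv_mem hd)
  · refine Odd.of_dvd_nat (KleinIso.odd_core (M := MM)) ?_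
    refine (Subgroup.card_map_dvd _ _).trans ?_
    exact Subgroup.card_dvd_of_le inf_le_left

theorem ss_sq : ss * ss = 1 := by rw [← pow_two, ← order_ss, pow_orderOf_eq_one]

/-- the image of `(9 10 11)` in `C(X3)` -/
noncomputable def x1m : MM := mk x1 x1_mem (by decide +kernel)

theorem x1m_core : x1m ∈ pPrimeCore 2 MM := mk_core _ _ _ (by decide +kernel) (by decide +kernel)

theorem comm_x1m {m : MM} (hm : m ∈ pPrimeCore 2 MM) (h3 : (orderOf m).Coprime 3) : m * x1m = x1m * m := by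
  have hn : (pPrimeCore 2 MM).Normal := Lib.Cores.pPrimeCore_normal 2
  have hfix : ∀ m ∈ pPrimeCore 2 MM, ss * m = m * ss → m ∈ zpowers xm := fun m hm h => core_fix hm h
  obtain ⟨k, hk⟩ := (CpAutTits.inv_mod xm_comm (by rw [order_xm]; decide) ss_sq (pPrimeCore 2 MM) hfix).2 m hm x1m x1m_core
  have hc : ∀ j : ℕ, m ^ j * x1m = x1m * m ^ j * xm ^ (k * j) := by
    intro j
    induction j with
    | zero => simp
    | succ j ih =>
      have h1 : ∀ y : MM, ∀ i : ℤ, xm ^ i * y = y * xm ^ i := fun y i =>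
        ((show Commute xm y from xm_comm y).zpow_left i).eq
      calc m ^ (j + 1) * x1m = m * (m ^ j * x1m) := by rw [pow_succ']; group
        _ = m * x1m * m ^ j * xm ^ (k * j) := by rw [ih]; group
        _ = x1m * m * (xm ^ k * m ^ j) * xm ^ (k * j) := by rw [hk]; group
        _ = x1m * m ^ (j + 1) * (xm ^ k * xm ^ (k * j)) := by rw [h1, pow_succ']; group
        _ = _ := by rw [← zpow_add]; congr 2; push_cast; ring
  have h1 := hc (orderOf m)
  rw [pow_orderOf_eq_one, one_mul, mul_one] at h1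
  have h2 : xm ^ (k * (orderOf m : ℤ)) = 1 := by
    have := h1.symm
    exact mul_eq_left.1 this
  have h4 : xm ^ k = 1 := by
    rw [← orderOf_dvd_iff_zpow_eq_one, order_xm] at h2 ⊢
    have h5 : IsCoprime ((3 : ℕ) : ℤ) (orderOf m : ℤ) := Nat.isCoprime_iff_coprime.2 h3.symm
    exact h5.dvd_of_dvd_mul_right h2
  rw [hk, h4, mul_one]

/-- `(0 1 2)(3 4 5)(6 7 8)` in `A9` -/
def px : Equiv.Perm (Fin 9) := cy9 [0, 1, 2] * cy9 [3, 4, 5] * cy9 [6, 7, 8]
theorem px_mem : px ∈ alternatingGroup (Fin 9) := by rw [mem_alternatingGroup]; decide +kernel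
def x9 : A9 := ⟨px, px_mem⟩

open Cfsg.Agent.Lib.AltCarmichael (cyc cyc_mem)

theorem x9_word : x9 = ⟨cyc 7 0, cyc_mem 7 0 (by norm_num)⟩ * ⟨cyc 7 3, cyc_mem 7 3 (by norm_num)⟩ *
    ⟨cyc 7 2, cyc_mem 7 2 (by norm_num)⟩ * ⟨cyc 7 5, cyc_mem 7 5 (by norm_num)⟩ *
    ⟨cyc 7 1, cyc_mem 7 1 (by norm_num)⟩ * ⟨cyc 7 4, cyc_mem 7 4 (by norm_num)⟩ *
    ⟨cyc 7 0, cyc_mem 7 0 (by norm_num)⟩ * ⟨cyc 7 3, cyc_mem 7 3 (by norm_num)⟩ *
    ⟨cyc 7 6, cyc_mem 7 6 (by norm_num)⟩ := by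
  apply Subtype.ext
  change px = cyc 7 0 * cyc 7 3 * cyc 7 2 * cyc 7 5 * cyc 7 1 * cyc 7 4 * cyc 7 0 * cyc 7 3 * cyc 7 6
  decide +kernel

theorem ι_x9 : ι x9 = ⟨x3, x3_mem⟩ := by
  rw [x9_word]
  simp only [map_mul]
  rw [ι_cyc (by norm_num), ι_cyc (by norm_num), ι_cyc (by norm_num), ι_cyc (by norm_num), ι_cyc (by norm_num),
    ι_cyc (by norm_num), ι_cyc (by norm_num)]
  apply Subtype.ext
  change qp 0 * qp 3 * qp 2 * qp 5 * qp 1 * qp 4 * qp 0 * qp 3 * qp 6 = x3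
  decide +kernel

theorem coe_x9 : ((Ψ x9 : ↥(centralizer ({X1} : Set G))) : G) = X3 := by
  rw [Ψ_coe, ι_x9]
  rfl

theorem order_dvd_x9 {a : A9} (h : a * x9 = x9 * a) : orderOf a ∣ 162 := by
  have hc : px.cycleType = {3, 3, 3} := by decide +kernel
  have h1 : Nat.card ↥(centralizer ({px} : Set (Equiv.Perm (Fin 9)))) = 162 := by
    have h := Equiv.Perm.nat_card_centralizer px
    rw [hc] at h
    rw [h]
    decide +kernel
  have hm : (a : Equiv.Perm (Fin 9)) ∈ centralizer ({px} : Set (Equiv.Perm (Fin 9))) :=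
    mem_centralizer_singleton_iff.2 (congrArg Subtype.val h)
  rw [← h1, ← Subgroup.orderOf_coe, ← Subgroup.orderOf_mk _ hm]
  exact orderOf_dvd_natCard _

/-- **the core is a 3-group** -/
theorem prime_core {r : ℕ} (hr : r.Prime) (hd : r ∣ Nat.card ↥(pPrimeCore 2 MM)) : r = 3 := by
  have hrf : Fact r.Prime := ⟨hr⟩
  obtain ⟨m, hm⟩ := exists_prime_orderOf_dvd_card' r hd
  have hm' : orderOf (m : MM) = r := by rw [Subgroup.orderOf_coe]; exact hm
  by_contra hr3
  have hr2 : r ≠ 2 := by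
    rintro rfl
    exact (Nat.not_even_iff_odd.2 (KleinIso.odd_core (M := MM))) (even_iff_two_dvd.2 hd)
  have hcop : r.Coprime 3 := (Nat.coprime_primes hr Nat.prime_three).2 hr3
  have h1 := comm_x1m m.2 (by rw [hm']; exact hcop)
  have h2 : ((m : MM) : G) * X1 = X1 * ((m : MM) : G) := congrArg Subtype.val h1
  let m1 : H678.HNT.Cent.C1 := ⟨((m : MM) : G), mem_centralizer_singleton_iff.2 h2⟩
  have hm1 : orderOf m1 = r := by
    rw [← Subgroup.orderOf_coe]
    change orderOf ((m : MM) : G) = r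
    rw [Subgroup.orderOf_coe, hm']
  obtain ⟨i, a, hia⟩ := H678.HNT.Cent.main m1
  have hx3 : (H678.HNT.Cent.xx : H678.HNT.Cent.C1) ^ 3 = 1 := by
    rw [← H678.HNT.Cent.order_xx, pow_orderOf_eq_one]
  have h3 : m1 ^ 3 = Ψ (a ^ 3) := by
    have hc : Commute (H678.HNT.Cent.xx ^ i) (Ψ a) :=
      (show Commute H678.HNT.Cent.xx (Ψ a) from H678.HNT.Cent.xx_comm _).zpow_left i
    rw [hia, hc.mul_pow, ← zpow_natCast, ← zpow_mul, mul_comm, zpow_mul, zpow_natCast, hx3, one_zpow, one_mul, map_pow]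
  obtain ⟨s, hs⟩ : ∃ s : ℕ, 3 * s ≡ 1 [MOD r] := by
    obtain ⟨s, -, hs⟩ := Nat.exists_mul_mod_eq_one_of_coprime hcop.symm hr.one_lt
    exact ⟨s, by rw [Nat.ModEq, hs, Nat.mod_eq_of_lt hr.one_lt]⟩
  have h4 : m1 = Ψ (a ^ (3 * s)) := by
    rw [pow_mul, map_pow, ← h3, ← pow_mul]
    conv_lhs => rw [← pow_one m1]
    rw [pow_eq_pow_iff_modEq, hm1]
    exact hs.symm
  have h5 : orderOf (a ^ (3 * s)) = r := by
    rw [← orderOf_injective Ψ Ψ_inj, ← h4, hm1]
  have h6 : a ^ (3 * s) * x9 = x9 * a ^ (3 * s) := by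
    apply Ψ_inj
    rw [map_mul, map_mul, ← h4]
    apply Subtype.ext
    change ((m : MM) : G) * ((Ψ x9 : ↥(centralizer ({X1} : Set G))) : G) = ((Ψ x9 : ↥(centralizer ({X1} : Set G))) : G) * ((m : MM) : G)
    rw [coe_x9]
    exact mem_centralizer_singleton_iff.1 (m : MM).2
  have h7 := order_dvd_x9 h6
  rw [h5, show (162 : ℕ) = 2 * 3 ^ 4 by norm_num] at h7
  rcases hr.dvd_mul.1 h7 with h8 | h8
  · exact hr2 ((Nat.prime_dvd_prime_iff_eq hr Nat.prime_two).1 h8)
  · exact hr3 ((Nat.prime_dvd_prime_iff_eq hr Nat.prime_three).1 (hr.dvd_of_dvd_pow h8))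

theorem main_aux : Nat.card ↥(pPrimeCore 2 MM) = 243 ∧ (pPrimeCore 2 MM).index = 120 := by
  have hn : (pPrimeCore 2 MM).Normal := Lib.Cores.pPrimeCore_normal 2
  -- the order of the core
  obtain ⟨k, hk⟩ : ∃ k, Nat.card ↥(pPrimeCore 2 MM) = 3 ^ k := by
    have h0 : Nat.card ↥(pPrimeCore 2 MM) ≠ 0 := Nat.card_pos.ne'
    exact ⟨_, Nat.eq_prime_pow_of_unique_prime_dvd h0 (fun hr hd => prime_core hr hd)⟩
  -- `C_M(s)`
  have hD : Nat.card ↥(centralizer ({ss} : Set MM)) = 360 := by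
    rw [← card_DG]
    refine Nat.card_congr
      { toFun := fun v => ⟨((v : MM) : G), (v : MM).2,
          mem_centralizer_singleton_iff.2 (congrArg Subtype.val (mem_centralizer_singleton_iff.1 v.2))⟩
        invFun := fun v => ⟨⟨(v : G), v.2.1⟩,
          mem_centralizer_singleton_iff.2 (Subtype.ext (mem_centralizer_singleton_iff.1 v.2.2))⟩
        left_inv := fun _ => rfl
        right_inv := fun _ => rfl }
  have hinf : (pPrimeCore 2 MM) ⊓ centralizer ({ss} : Set MM) = zpowers xm := by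
    apply le_antisymm
    · rintro m ⟨hm1, hm2⟩
      exact core_fix hm1 (mem_centralizer_singleton_iff.1 hm2).symm
    · rw [zpowers_le]
      exact ⟨xm_core, mem_centralizer_singleton_iff.2 (xm_comm ss)⟩
  have h1 : Nat.card ↥((pPrimeCore 2 MM) ⊓ centralizer ({ss} : Set MM)) = 3 := by
    rw [hinf, Nat.card_zpowers, order_xm]
  have h2 := relIndex_mul_relIndex ⊥ ((pPrimeCore 2 MM) ⊓ centralizer ({ss} : Set MM)) (centralizer ({ss} : Set MM))
    bot_le inf_le_right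
  rw [relIndex_bot_left, relIndex_bot_left, inf_relIndex_right, h1, hD] at h2
  have h3 : (pPrimeCore 2 MM).index = (pPrimeCore 2 MM).relIndex (centralizer ({ss} : Set MM)) := by
    have h4 := KleinIso.core_sup order_ss comm_core
    rw [← relIndex_top_right, ← h4]
    exact relIndex_sup_left _ _
  have h4 := (pPrimeCore 2 MM).card_mul_index
  rw [h3, show (pPrimeCore 2 MM).relIndex (centralizer ({ss} : Set MM)) = 120 by omega, hk] at h4
  -- the 3-part
  have h5 := MM.card_mul_index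
  rw [← h4, card_G] at h5
  have h6 := index_X3
  have h7 : k = 5 := by
    have hv : (3 ^ k * 120 * MM.index).factorization 3 = (273030912000000 : ℕ).factorization 3 := by rw [h5]
    have hi0 : MM.index ≠ 0 := by
      intro h0
      rw [h0, mul_zero] at h5
      norm_num at h5
    rw [Nat.factorization_mul (by positivity) hi0, Nat.factorization_mul (by positivity) (by norm_num),
      Nat.Prime.factorization_pow Nat.prime_three, Finsupp.add_apply, Finsupp.add_apply,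
      Nat.factorization_eq_zero_of_not_dvd h6, Finsupp.single_eq_same] at hv
    have e1 : (120 : ℕ).factorization 3 = 1 := by
      rw [show (120 : ℕ) = 3 ^ 1 * 40 by norm_num, Nat.factorization_mul (by norm_num) (by norm_num),
        Nat.Prime.factorization_pow Nat.prime_three, Finsupp.add_apply, Finsupp.single_eq_same,
        Nat.factorization_eq_zero_of_not_dvd (show ¬ 3 ∣ 40 by norm_num)]
    have e2 : (273030912000000 : ℕ).factorization 3 = 6 := by
      rw [show (273030912000000 : ℕ) = 3 ^ 6 * 374528000000 by norm_num,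
        Nat.factorization_mul (by norm_num) (by norm_num),
        Nat.Prime.factorization_pow Nat.prime_three, Finsupp.add_apply, Finsupp.single_eq_same,
        Nat.factorization_eq_zero_of_not_dvd (show ¬ 3 ∣ 374528000000 by norm_num)]
    rw [e1, e2] at hv
    omega
  refine ⟨by rw [hk, h7]; norm_num, ?_⟩
  rw [h3]
  omega

/-- `|O(C(X3))| = 3^5` -/
theorem card_core : Nat.card ↥(pPrimeCore 2 MM) = 243 := main_aux.1

/-- `|C(X3) : O(C(X3))| = 120` -/
theorem index_core : (pPrimeCore 2 MM).index = 120 := main_aux.2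

/-- **`|C(X3)| = 29160`** -/
theorem card_cent_X3 : Nat.card ↥(centralizer ({X3} : Set G)) = 29160 := by
  have h := (pPrimeCore 2 MM).card_mul_index
  rw [card_core, index_core] at h
  change Nat.card MM = 29160
  omega

/-! ### the quotient -/

theorem A5_no_15 : ∀ g : A5, g ^ 15 = 1 → g ^ 5 = 1 ∨ g ^ 3 = 1 := by (set_option synthInstance.maxSize 9000 in open scoped Cfsg.Agent.Lib.FastPerm in decide +kernel)

/-- the elements of `C(X3) ∩ C(S3)` -/
theorem DG_quot {u : G} (hu : u ∈ DG) (h : ∃ i : ℕ, u ^ 15 = X3 ^ i) : ∃ i : ℕ, u ^ 10 = X3 ^ i ∨ u ^ 6 = X3 ^ i := by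
  obtain ⟨g, hg, hs, hρ⟩ := t1_x3
  have h3 : orderOf (⟨g * X3 * g⁻¹, hg⟩ : PP) = 3 := order_sub hg (order_conj order_X3 g)
  have hmap := map_DG hg hs
  have h1 : g * u * g⁻¹ ∈ DG.map (MulAut.conj g).toMonoidHom := ⟨u, hu, rfl⟩
  rw [hmap] at h1
  obtain ⟨w, hw, hwu⟩ := h1
  have hwu' : (w : G) = g * u * g⁻¹ := hwu
  have hwc : w * ⟨g * X3 * g⁻¹, hg⟩ = ⟨g * X3 * g⁻¹, hg⟩ * w := mem_centralizer_singleton_iff.1 hw
  obtain ⟨a, b, ha, hab⟩ := image_A hρ hwc
  have hcab : Commute (φA a) (φB b) := comm_AB a b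
  have hpow : ∀ n : ℕ, ρ (w ^ n) = φA (a ^ n) * φB (b ^ n) := by
    intro n
    rw [map_pow, hab, hcab.mul_pow, map_pow, map_pow]
  -- the second component
  obtain ⟨i, hi⟩ := h
  have hb15 : b ^ 15 = 1 := by
    have h4 : w ^ 15 = ⟨g * X3 * g⁻¹, hg⟩ ^ i := by
      apply Subtype.ext
      change (w : G) ^ 15 = (g * X3 * g⁻¹) ^ i
      rw [hwu', conj_pow, conj_pow, hi]
    have h5 := hpow 15
    rw [h4, map_pow, hρ, ← map_pow] at h5
    have h6 : φA (c0 ^ i) * φB 1 = φA (a ^ 15) * φB (b ^ 15) := by rw [map_one, mul_one]; exact h5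
    exact (Cfsg.Agent.KFacts.HN.φ2_inj h6).2.symm
  -- a power in the kernel
  have key : ∀ n : ℕ, b ^ n = 1 → ∃ j : ℕ, u ^ (2 * n) = X3 ^ j := by
    intro n hn
    obtain ⟨j, hj⟩ : ∃ j : ℕ, a ^ n = c0 ^ j := by
      rcases cent_c0 ha with rfl | rfl | rfl
      · exact ⟨0, by rw [one_pow, pow_zero]⟩
      · exact ⟨n, rfl⟩
      · exact ⟨2 * n, by rw [← pow_two, ← pow_mul]⟩
    have h4 : w ^ n * (⟨g * X3 * g⁻¹, hg⟩ ^ j)⁻¹ ∈ ρ.ker := by
      have e : ρ (⟨g * X3 * g⁻¹, hg⟩ ^ j) = φA (c0 ^ j) := by rw [map_pow, hρ, map_pow]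
      rw [MonoidHom.mem_ker, map_mul, hpow, hn, hj, map_one, mul_one, map_inv, e, mul_inv_cancel]
    have hcw : Commute w ⟨g * X3 * g⁻¹, hg⟩ := hwc
    have hc2 : Commute (w ^ n) (⟨g * X3 * g⁻¹, hg⟩ ^ j)⁻¹ := ((hcw.pow_left n).pow_right j).inv_right
    have h5 : w ^ n * (⟨g * X3 * g⁻¹, hg⟩ ^ j)⁻¹ * ⟨g * X3 * g⁻¹, hg⟩ =
        ⟨g * X3 * g⁻¹, hg⟩ * (w ^ n * (⟨g * X3 * g⁻¹, hg⟩ ^ j)⁻¹) :=
      (show Commute (w ^ n * (⟨g * X3 * g⁻¹, hg⟩ ^ j)⁻¹) ⟨g * X3 * g⁻¹, hg⟩ from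
        (hcw.pow_left n).mul_left ((Commute.refl _).pow_left j).inv_left).eq
    have h6 : (w ^ n * (⟨g * X3 * g⁻¹, hg⟩ ^ j)⁻¹) ^ 2 = 1 := by
      apply Subtype.ext
      rcases ker_A hρ h4 h5 with h | h
      · change ((w ^ n * (⟨g * X3 * g⁻¹, hg⟩ ^ j)⁻¹ : PP) : G) ^ 2 = 1
        rw [h, one_pow]
      · change ((w ^ n * (⟨g * X3 * g⁻¹, hg⟩ ^ j)⁻¹ : PP) : G) ^ 2 = 1
        rw [h, pow_two, W0_sq]
    rw [hc2.mul_pow, inv_pow, mul_inv_eq_one, ← pow_mul, ← pow_mul] at h6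
    refine ⟨j * 2, ?_⟩
    have h7 : (w : G) ^ (n * 2) = (g * X3 * g⁻¹) ^ (j * 2) := congrArg Subtype.val h6
    rw [hwu', conj_pow, conj_pow] at h7
    rw [mul_comm 2 n]
    exact mul_left_cancel (mul_right_cancel h7)
  rcases A5_no_15 b hb15 with h | h
  · obtain ⟨j, hj⟩ := key 5 h
    exact ⟨j, Or.inl hj⟩
  · obtain ⟨j, hj⟩ := key 3 h
    exact ⟨j, Or.inr hj⟩

/-- **`C(X3) / O(C(X3))` has no elements of order 15** -/
theorem no_fifteen {m : MM} (h : m ^ 15 ∈ pPrimeCore 2 MM) : m ^ 10 ∈ pPrimeCore 2 MM ∨ m ^ 6 ∈ pPrimeCore 2 MM := by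
  have hn : (pPrimeCore 2 MM).Normal := Lib.Cores.pPrimeCore_normal 2
  have h2 : m ∈ pPrimeCore 2 MM ⊔ centralizer ({ss} : Set MM) := by
    rw [KleinIso.core_sup order_ss comm_core]; exact mem_top _
  obtain ⟨n, hnn, c, hc, rfl⟩ := mem_sup_of_normal_left.1 h2
  have hq : ∀ k : ℕ, (n * c) ^ k ∈ pPrimeCore 2 MM ↔ c ^ k ∈ pPrimeCore 2 MM := by
    intro k
    have h3 : (QuotientGroup.mk' (pPrimeCore 2 MM)) (n * c) = (QuotientGroup.mk' (pPrimeCore 2 MM)) c := by
      rw [map_mul, (QuotientGroup.eq_one_iff n).2 hnn |> (fun h => (h : (QuotientGroup.mk' (pPrimeCore 2 MM)) n = 1)), one_mul]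
    rw [← QuotientGroup.ker_mk' (pPrimeCore 2 MM), MonoidHom.mem_ker, MonoidHom.mem_ker, map_pow, map_pow, h3]
  rw [hq] at h
  rw [hq, hq]
  have hcs : ∀ k : ℕ, c ^ k ∈ pPrimeCore 2 MM → ∃ i : ℕ, (c : G) ^ k = X3 ^ i := by
    intro k hk
    have h3 := core_fix hk ((mem_centralizer_singleton_iff.1 ((centralizer ({ss} : Set MM)).pow_mem hc k)).symm)
    obtain ⟨i, hi⟩ := (mem_powers_iff_mem_zpowers (x := xm)).2 h3
    exact ⟨i, (congrArg Subtype.val hi).symm⟩
  have hDG : (c : G) ∈ DG := ⟨c.2, mem_centralizer_singleton_iff.2 (congrArg Subtype.val (mem_centralizer_singleton_iff.1 hc))⟩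
  have hback : ∀ k i : ℕ, (c : G) ^ k = X3 ^ i → c ^ k ∈ pPrimeCore 2 MM := by
    intro k i hk
    have h3 : c ^ k = xm ^ i := Subtype.ext hk
    rw [h3]
    exact (pPrimeCore 2 MM).pow_mem xm_core i
  obtain ⟨i, hi | hi⟩ := DG_quot hDG (hcs 15 h)
  · exact Or.inl (hback _ _ hi)
  · exact Or.inr (hback _ _ hi)

end Cfsg.Agent.H680.HNF
end

-- part: H680/HNF/NoFF
section
/-!
# `HN` has no elements of order 45 (helper680)
-/

set_option autoImplicit false

namespace Cfsg.Agent.H680.HNF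

open Subgroup Cfsg
open Cfsg.Agent
open Cfsg.Agent.CpAutHN.Alt
open Cfsg.Agent.CpAutHN.Pairs
open Cfsg.Agent.H569.HNThree
open Cfsg.Agent.CpAutHN.Second
open Cfsg.Agent.CpAutHN.NineAlt

/-- elements of prime order `≠ 3` commuting with `X3` and `X1` -/
theorem prime_x1m {m : MM} {r : ℕ} (hr : r.Prime) (hm' : orderOf m = r) (hr3 : r ≠ 3) (h1 : m * x1m = x1m * m) :
    r = 2 := by
  have hcop : r.Coprime 3 := (Nat.coprime_primes hr Nat.prime_three).2 hr3
  have h2 : (m : G) * X1 = X1 * (m : G) := congrArg Subtype.val h1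
  let m1 : H678.HNT.Cent.C1 := ⟨(m : G), mem_centralizer_singleton_iff.2 h2⟩
  have hm1 : orderOf m1 = r := by
    rw [← Subgroup.orderOf_coe]
    change orderOf (m : G) = r
    rw [Subgroup.orderOf_coe, hm']
  obtain ⟨i, a, hia⟩ := H678.HNT.Cent.main m1
  have hx3 : (H678.HNT.Cent.xx : H678.HNT.Cent.C1) ^ 3 = 1 := by
    rw [← H678.HNT.Cent.order_xx, pow_orderOf_eq_one]
  have h3 : m1 ^ 3 = Ψ (a ^ 3) := by
    have hc : Commute (H678.HNT.Cent.xx ^ i) (Ψ a) :=
      (show Commute H678.HNT.Cent.xx (Ψ a) from H678.HNT.Cent.xx_comm _).zpow_left i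
    rw [hia, hc.mul_pow, ← zpow_natCast, ← zpow_mul, mul_comm, zpow_mul, zpow_natCast, hx3, one_zpow, one_mul, map_pow]
  obtain ⟨s, hs⟩ : ∃ s : ℕ, 3 * s ≡ 1 [MOD r] := by
    obtain ⟨s, -, hs⟩ := Nat.exists_mul_mod_eq_one_of_coprime hcop.symm hr.one_lt
    exact ⟨s, by rw [Nat.ModEq, hs, Nat.mod_eq_of_lt hr.one_lt]⟩
  have h4 : m1 = Ψ (a ^ (3 * s)) := by
    rw [pow_mul, map_pow, ← h3, ← pow_mul]
    conv_lhs => rw [← pow_one m1]
    rw [pow_eq_pow_iff_modEq, hm1]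
    exact hs.symm
  have h5 : orderOf (a ^ (3 * s)) = r := by
    rw [← orderOf_injective Ψ Ψ_inj, ← h4, hm1]
  have h6 : a ^ (3 * s) * x9 = x9 * a ^ (3 * s) := by
    apply Ψ_inj
    rw [map_mul, map_mul, ← h4]
    apply Subtype.ext
    change (m : G) * ((Ψ x9 : ↥(centralizer ({X1} : Set G))) : G) = ((Ψ x9 : ↥(centralizer ({X1} : Set G))) : G) * (m : G)
    rw [coe_x9]
    exact mem_centralizer_singleton_iff.1 m.2
  have h7 := order_dvd_x9 h6
  rw [h5, show (162 : ℕ) = 2 * 3 ^ 4 by norm_num] at h7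
  rcases hr.dvd_mul.1 h7 with h8 | h8
  · exact (Nat.prime_dvd_prime_iff_eq hr Nat.prime_two).1 h8
  · exact absurd ((Nat.prime_dvd_prime_iff_eq hr Nat.prime_three).1 (hr.dvd_of_dvd_pow h8)) hr3

/-- **the dichotomy for elements of order 3** -/
theorem dich {x : G} (hx : orderOf x = 3) : ∃ c : G, c * x * c⁻¹ = X1 ∨ c * x * c⁻¹ = X3 := by
  obtain ⟨t, ht, hc⟩ := Cfsg.Agent.H728.Four.HN3C.comm_inv (a := x) (by rw [← hx, pow_orderOf_eq_one])
  exact conj_of_comm (y := x) (t := t) ⟨1, by rw [pow_one, ← hx, pow_orderOf_eq_one]⟩ ht hc.symm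
    (by rintro rfl; rw [orderOf_one] at hx; norm_num at hx)

/-- no element has cube `X1` -/
theorem no_cube_X1 {x : G} (h : x ^ 3 = X1) : False := by
  have hx : x * X1 = X1 * x := by rw [← h, ← pow_succ, ← pow_succ']
  obtain ⟨i, a, hia⟩ := H678.HNT.Cent.main ⟨x, mem_centralizer_singleton_iff.2 hx⟩
  have hx3 : (H678.HNT.Cent.xx : H678.HNT.Cent.C1) ^ 3 = 1 := by
    rw [← H678.HNT.Cent.order_xx, pow_orderOf_eq_one]
  have hc : Commute (H678.HNT.Cent.xx ^ i) (Ψ a) :=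
    (show Commute H678.HNT.Cent.xx (Ψ a) from H678.HNT.Cent.xx_comm _).zpow_left i
  have h3 : (⟨x, mem_centralizer_singleton_iff.2 hx⟩ : H678.HNT.Cent.C1) ^ 3 = Ψ (a ^ 3) := by
    rw [hia, hc.mul_pow, ← zpow_natCast, ← zpow_mul, mul_comm, zpow_mul, zpow_natCast, hx3, one_zpow, one_mul, map_pow]
  have h4 : H678.HNT.Cent.xx = Ψ (a ^ 3) := by
    rw [← h3]
    exact Subtype.ext h.symm
  have h5 : Ψ (a ^ 3) ∈ H678.HNT.Cent.DD ⊓ pPrimeCore 2 H678.HNT.Cent.C1 :=
    ⟨⟨a ^ 3, rfl⟩, by rw [← h4]; exact H678.HNT.Cent.xx_core⟩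
  rw [H678.HNT.inf_core H678.HNT.Cent.DD H678.HNT.Cent.two_dvd, mem_bot, ← h4] at h5
  have h6 := H678.HNT.Cent.order_xx
  rw [h5, orderOf_one] at h6
  norm_num at h6

/-- a 5-element acting on a group of order 81 -/
theorem fixed_all {M : Type*} [Group M] [Finite M] (N : Subgroup M) [hN : N.Normal] {b : M} (hb : b ^ 5 = 1)
    (hcard : Nat.card N = 81) {x : M} (hx : x ∈ N) (hx1 : x ≠ 1) (hbx : b * x = x * b) :
    ∀ n ∈ N, b * n = n * b := by
  have : Fact (Nat.Prime 5) := ⟨by norm_num⟩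
  let f : zpowers b →* MulAut N := (MulAut.conjNormal (H := N)).comp (zpowers b).subtype
  let _ : MulAction (zpowers b) N := MulAction.compHom N f
  have hp : IsPGroup 5 (zpowers b) := by
    rintro ⟨_, m, rfl⟩
    refine ⟨1, Subtype.ext ?_⟩
    change (b ^ m) ^ 5 ^ 1 = 1
    rw [pow_one, ← zpow_natCast, ← zpow_mul, mul_comm, zpow_mul, zpow_natCast, hb, one_zpow]
  have h1 := hp.card_modEq_card_fixedPoints N
  have hsm : ∀ (z : zpowers b) (n : N), ((z • n : N) : M) = (z : M) * n * (z : M)⁻¹ := fun z n =>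
    MulAut.conjNormal_apply _ _
  have h2 : Nat.card (MulAction.fixedPoints (zpowers b) N) = Nat.card ↥(N ⊓ centralizer ({b} : Set M)) := by
    refine Nat.card_congr
      { toFun := fun n => ⟨((n : N) : M), (n : N).2, ?_⟩
        invFun := fun n => ⟨⟨(n : M), n.2.1⟩, ?_⟩
        left_inv := fun _ => rfl
        right_inv := fun _ => rfl }
    · have h3 := congrArg Subtype.val (n.2 ⟨b, mem_zpowers b⟩)
      rw [hsm] at h3
      exact mem_centralizer_singleton_iff.2 (mul_inv_eq_iff_eq_mul.1 h3).symm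
    · rintro ⟨_, m, rfl⟩
      apply Subtype.ext
      rw [hsm]
      have h3 : Commute b (n : M) := (mem_centralizer_singleton_iff.1 n.2.2).symm
      change b ^ m * (n : M) * (b ^ m)⁻¹ = n
      rw [(h3.zpow_left m).eq, mul_inv_cancel_right]
  rw [h2, hcard] at h1
  have h3 : Nat.card ↥(N ⊓ centralizer ({b} : Set M)) ∣ 81 := by
    rw [← hcard]
    exact Subgroup.card_dvd_of_le inf_le_left
  have h4 : Nat.card ↥(N ⊓ centralizer ({b} : Set M)) ≠ 1 := by
    intro h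
    have h5 := Subgroup.card_eq_one.1 h
    have h6 : x ∈ N ⊓ centralizer ({b} : Set M) := ⟨hx, mem_centralizer_singleton_iff.2 hbx.symm⟩
    rw [h5, mem_bot] at h6
    exact hx1 h6
  have h5 : Nat.card ↥(N ⊓ centralizer ({b} : Set M)) = 81 := by
    generalize Nat.card ↥(N ⊓ centralizer ({b} : Set M)) = c at *
    obtain ⟨i, hi, rfl⟩ := (Nat.dvd_prime_pow Nat.prime_three (m := 4)).1 (by norm_num; exact h3)
    unfold Nat.ModEq at h1
    interval_cases i
    · norm_num at h4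
    · norm_num at h1
    · norm_num at h1
    · norm_num at h1
    · norm_num
  have h6 : N ⊓ centralizer ({b} : Set M) = N := Subgroup.eq_of_le_of_card_ge inf_le_left (by rw [h5, hcard])
  intro n hn
  rw [← h6] at hn
  exact (mem_centralizer_singleton_iff.1 hn.2).symm

section five

variable {b x : MM} (hb : orderOf b = 5) (hx : x ^ 3 = xm) (hbx : b * x = x * b)

theorem xm_pow : xm ^ 3 = 1 := by rw [← order_xm, pow_orderOf_eq_one]

include hb in
theorem b_not_core : b ∉ pPrimeCore 2 MM := by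
  intro h
  have h1 := orderOf_dvd_natCard (⟨b, h⟩ : pPrimeCore 2 MM)
  rw [← Subgroup.orderOf_coe, card_core] at h1
  change orderOf b ∣ 243 at h1
  rw [hb] at h1
  norm_num at h1

include hb hx hbx in
theorem x_core : x ∈ pPrimeCore 2 MM := by
  have hx9 : x ^ 9 = 1 := by rw [show 9 = 3 * 3 by norm_num, pow_mul, hx, xm_pow]
  have hb5 : b ^ 5 = 1 := by rw [← hb, pow_orderOf_eq_one]
  have hc : Commute x b := hbx.symm
  have h15 : (x * b) ^ 15 ∈ pPrimeCore 2 MM := by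
    rw [hc.mul_pow, show 15 = 5 * 3 by norm_num, pow_mul b, hb5, one_pow, mul_one, mul_comm, pow_mul, hx]
    exact (pPrimeCore 2 MM).pow_mem xm_core 5
  rcases no_fifteen h15 with h | h
  · rw [hc.mul_pow, show 10 = 5 * 2 by norm_num, pow_mul b, hb5, one_pow, mul_one, show 5 * 2 = 9 + 1 by norm_num,
      pow_succ, hx9, one_mul] at h
    exact h
  · exfalso
    apply b_not_core hb
    rw [hc.mul_pow, show 6 = 5 + 1 by norm_num, pow_succ b, hb5, one_mul, show 5 + 1 = 3 * 2 by norm_num, pow_mul, hx] at h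
    have h1 := (pPrimeCore 2 MM).mul_mem ((pPrimeCore 2 MM).inv_mem ((pPrimeCore 2 MM).pow_mem xm_core 2)) h
    rwa [inv_mul_cancel_left] at h1

include hb hx hbx in
theorem false_X3 : False := by
  have hn : (pPrimeCore 2 MM).Normal := Lib.Cores.pPrimeCore_normal 2
  have hxc := x_core hb hx hbx
  have hb5 : b ^ 5 = 1 := by rw [← hb, pow_orderOf_eq_one]
  have hxmN : (zpowers xm).Normal := by
    constructor
    intro z hz y
    obtain ⟨k, rfl⟩ := mem_zpowers_iff.1 hz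
    rw [← ((show Commute xm y from xm_comm y).zpow_left k).eq, mul_inv_cancel_right]
    exact zpow_mem (mem_zpowers xm) k
  -- the quotient
  let π : MM →* MM ⧸ zpowers xm := QuotientGroup.mk' (zpowers xm)
  have hle : zpowers xm ≤ pPrimeCore 2 MM := by rw [zpowers_le]; exact xm_core
  have hNn : ((pPrimeCore 2 MM).map π).Normal := Subgroup.Normal.map hn _ (QuotientGroup.mk'_surjective _)
  have hcard : Nat.card ↥((pPrimeCore 2 MM).map π) = 81 := by
    have h1 : Nat.card ↥((pPrimeCore 2 MM).map π) = ((zpowers xm).subgroupOf (pPrimeCore 2 MM)).index := by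
      have h2 : (pPrimeCore 2 MM).map π = (π.comp (pPrimeCore 2 MM).subtype).range := by
        rw [MonoidHom.range_comp, Subgroup.range_subtype]
      have h3 : (π.comp (pPrimeCore 2 MM).subtype).ker = (zpowers xm).subgroupOf (pPrimeCore 2 MM) := by
        ext o
        rw [MonoidHom.mem_ker, MonoidHom.comp_apply, mem_subgroupOf]
        exact QuotientGroup.eq_one_iff _
      rw [h2, ← h3, Subgroup.index_ker]
    have h2 := ((zpowers xm).subgroupOf (pPrimeCore 2 MM)).card_mul_index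
    rw [Nat.card_congr (subgroupOfEquivOfLe hle).toEquiv, Nat.card_zpowers, order_xm, card_core] at h2
    rw [h1]
    omega
  have hx1 : π x ≠ 1 := by
    intro h
    obtain ⟨k, hk⟩ := mem_zpowers_iff.1 ((QuotientGroup.eq_one_iff x).1 h)
    have h1 : x ^ 3 = 1 := by
      rw [← hk, ← zpow_natCast, ← zpow_mul, mul_comm, zpow_mul, zpow_natCast, xm_pow, one_zpow]
    rw [hx] at h1
    have h2 := order_xm
    rw [h1, orderOf_one] at h2
    norm_num at h2
  have hall := fixed_all ((pPrimeCore 2 MM).map π) (b := π b) (by rw [← map_pow, hb5, map_one]) hcard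
    (x := π x) ⟨x, hxc, rfl⟩ hx1 (by rw [← map_mul, hbx, map_mul]) (π x1m) ⟨x1m, x1m_core, rfl⟩
  rw [← map_mul, ← map_mul] at hall
  obtain ⟨k, hk⟩ := mem_zpowers_iff.1 (QuotientGroup.eq.1 hall)
  have hk' : b * x1m * b⁻¹ = x1m * xm ^ (-k) := by
    have e : xm ^ (-k) * b⁻¹ = b⁻¹ * xm ^ (-k) := ((show Commute xm b⁻¹ from xm_comm _).zpow_left _).eq
    have h1 : x1m * b = b * x1m * xm ^ k := by rw [hk]; group
    have h2 : b * x1m = x1m * b * xm ^ (-k) := by rw [h1, zpow_neg, mul_inv_cancel_right]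
    calc b * x1m * b⁻¹ = x1m * b * (xm ^ (-k) * b⁻¹) := by rw [h2]; group
      _ = _ := by rw [e]; group
  generalize -k = k at hk'
  have hj : ∀ j : ℕ, b ^ j * x1m * (b ^ j)⁻¹ = x1m * xm ^ (k * j) := by
    intro j
    induction j with
    | zero => simp
    | succ j ih =>
      have e : b * xm ^ (k * j) = xm ^ (k * j) * b := ((show Commute xm b from xm_comm _).zpow_left _).eq.symm
      calc b ^ (j + 1) * x1m * (b ^ (j + 1))⁻¹ = b * (b ^ j * x1m * (b ^ j)⁻¹) * b⁻¹ := by rw [pow_succ']; group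
        _ = b * x1m * (xm ^ (k * j) * b⁻¹) := by rw [ih]; group
        _ = b * x1m * b⁻¹ * xm ^ (k * j) := by
          have e2 : xm ^ (k * j) * b⁻¹ = b⁻¹ * xm ^ (k * j) := ((show Commute xm b⁻¹ from xm_comm _).zpow_left _).eq
          rw [e2]; group
        _ = x1m * (xm ^ k * xm ^ (k * j)) := by rw [hk']; group
        _ = _ := by rw [← zpow_add]; congr 2; push_cast; ring
  have h5 := hj 5
  rw [hb5, one_mul, inv_one, mul_one] at h5
  have h6 : xm ^ (k * ((5 : ℕ) : ℤ)) = 1 := mul_eq_left.1 h5.symm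
  have h7 : xm ^ k = 1 := by
    rw [← orderOf_dvd_iff_zpow_eq_one, order_xm] at h6 ⊢
    push_cast at h6 ⊢
    omega
  rw [h7, mul_one, mul_inv_eq_iff_eq_mul] at hk'
  have h8 := prime_x1m (by norm_num : Nat.Prime 5) hb (by norm_num) hk'
  norm_num at h8

end five

/-- **no elements of order 45** -/
theorem no45 : ∀ b x : G, orderOf b = 5 → orderOf x = 9 → b * x ≠ x * b := by
  intro b x hb hx hbx
  have h3 : orderOf (x ^ 3) = 3 := by rw [orderOf_pow' _ (by norm_num), hx]; norm_num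
  obtain ⟨c, hc | hc⟩ := dich h3
  · exact no_cube_X1 (x := c * x * c⁻¹) (by rw [conj_pow, hc])
  · have hx' : (c * x * c⁻¹) ^ 3 = X3 := by rw [conj_pow, hc]
    have hcomm : c * b * c⁻¹ * (c * x * c⁻¹) = c * x * c⁻¹ * (c * b * c⁻¹) := by
      calc c * b * c⁻¹ * (c * x * c⁻¹) = c * (b * x) * c⁻¹ := by group
        _ = c * (x * b) * c⁻¹ := by rw [hbx]
        _ = _ := by group
    have hbm : c * b * c⁻¹ * X3 = X3 * (c * b * c⁻¹) := by
      rw [← hx']
      exact ((show Commute (c * b * c⁻¹) (c * x * c⁻¹) from hcomm).pow_right 3).eq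
    have hxm : c * x * c⁻¹ * X3 = X3 * (c * x * c⁻¹) := by
      rw [← hx', ← pow_succ, ← pow_succ']
    refine false_X3 (b := ⟨c * b * c⁻¹, mem_centralizer_singleton_iff.2 hbm⟩)
      (x := ⟨c * x * c⁻¹, mem_centralizer_singleton_iff.2 hxm⟩) ?_ (Subtype.ext hx') (Subtype.ext hcomm)
    rw [← Subgroup.orderOf_coe]
    change orderOf (c * b * c⁻¹) = 5
    rw [← hb]
    exact MulEquiv.orderOf_eq (MulAut.conj c) b

end Cfsg.Agent.H680.HNF
end
end
end
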